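import Cfsg.Agent.Spor.DE0
import Cfsg.Agent.Spor.LyM.D0

set_option autoImplicit false
set_option maxRecDepth 100000000
set_option Elab.async false
noncomputable section

namespace Cfsg.Agent.Spor.LyUE

abbrev A : PA := LyM.A
abbrev A_one : Nat := LyM.A_one

end Cfsg.Agent.Spor.LyUE
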